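import Cfsg.Agent.H250.P1.Defs

/-!
# The `P!`-theorem (S3046), Case A, steps (gamma) and (eps)

`AStr.one_of_gt`: `r = 1` if `|F| > 2`.  `AStr.concl`: the conclusion for `r = 1`.
-/

set_option autoImplicit false
set_option linter.unusedSectionVars false

open Cfsg Subgroup
open Cfsg.Agent.H230 Cfsg.Agent.H229 Cfsg.Agent.H247.P1 Cfsg.Agent.H250.P1

namespace Cfsg.Agent.H736.P1

/-! ### `M₂(F)` acting on `F²` -/

section Mat

variable {F : Type} [Field F]

/-- matrices as additive endomorphisms of `F²` -/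
def mv : Matrix (Fin 2) (Fin 2) F →+* AddMonoid.End (Fin 2 → F) where
  toFun A :=
    { toFun := fun v => A.mulVec v
      map_zero' := Matrix.mulVec_zero A
      map_add' := fun v w => Matrix.mulVec_add A v w }
  map_one' := by
    apply AddMonoidHom.ext; intro v
    exact Matrix.one_mulVec v
  map_mul' A B := by
    apply AddMonoidHom.ext; intro v
    exact (Matrix.mulVec_mulVec v A B).symm
  map_zero' := by
    apply AddMonoidHom.ext; intro v
    exact Matrix.zero_mulVec v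
  map_add' A B := by
    apply AddMonoidHom.ext; intro v
    exact Matrix.add_mulVec A B v

theorem mv_apply (A : Matrix (Fin 2) (Fin 2) F) (v : Fin 2 → F) : mv A v = A.mulVec v := rfl

theorem mv_inj {A B : Matrix (Fin 2) (Fin 2) F} (h : mv A = mv B) : A = B := by
  apply Matrix.mulVec_injective
  funext v
  exact congrArg (fun f : AddMonoid.End (Fin 2 → F) => f v) h

theorem end_mul_apply (f g : AddMonoid.End (Fin 2 → F)) (v : Fin 2 → F) : (f * g) v = f (g v) := rfl

theorem end_one_apply (v : Fin 2 → F) : (1 : AddMonoid.End (Fin 2 → F)) v = v := rfl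

/-- the upper unitriangular matrix -/
def up (a : F) : Matrix (Fin 2) (Fin 2) F := !![1, a; 0, 1]

theorem mv_up_line (a b : F) : mv (up a) ![b, 0] = ![b, 0] := by
  rw [mv_apply, up]
  funext i
  fin_cases i <;> simp [Matrix.mulVec, dotProduct, Fin.sum_univ_two]

theorem mv_diag_line (l l' b : F) : mv !![l, 0; 0, l'] ![b, 0] = ![l * b, 0] := by
  rw [mv_apply]
  funext i
  fin_cases i <;> simp [Matrix.mulVec, dotProduct, Fin.sum_univ_two]

/-- in characteristic `p`, a `p`-power root of unity is `1`. -/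
theorem eq_one_of_pow {p : ℕ} [hp : Fact p.Prime] [CharP F p] {a : F} {k : ℕ} (h : a ^ p ^ k = 1) : a = 1 := by
  have h1 : (a - 1) ^ p ^ k = 0 := by
    rw [sub_pow_char_pow, h, one_pow, sub_self]
  have h2 := pow_eq_zero_iff (pow_ne_zero k hp.out.ne_zero) |>.1 h1
  exact sub_eq_zero.1 h2

theorem pow_upper (a b d : F) (n : ℕ) :
    ∃ e : F, (!![a, b; 0, d] : Matrix (Fin 2) (Fin 2) F) ^ n = !![a ^ n, e; 0, d ^ n] := by
  induction n with
  | zero => exact ⟨0, by ext i j; fin_cases i <;> fin_cases j <;> simp⟩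
  | succ n ih =>
    obtain ⟨e, he⟩ := ih
    refine ⟨a ^ n * b + e * d, ?_⟩
    rw [pow_succ, he]
    ext i j
    fin_cases i <;> fin_cases j <;> simp [Matrix.mul_apply, Fin.sum_univ_two, pow_succ]

theorem unip_of_pow {p : ℕ} [hp : Fact p.Prime] [CharP F p] {a b d : F} {k : ℕ}
    (h : (!![a, b; 0, d] : Matrix (Fin 2) (Fin 2) F) ^ p ^ k = 1) : a = 1 ∧ d = 1 := by
  obtain ⟨e, he⟩ := pow_upper a b d (p ^ k)
  rw [he] at h
  have h0 := congrFun (congrFun h 0) 0
  have h1 := congrFun (congrFun h 1) 1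
  simp at h0 h1
  exact ⟨eq_one_of_pow h0, eq_one_of_pow h1⟩

/-- a map of `p`-power order preserving the line `(*, 0)` and commuting there with the scalars is trivial on it. -/
theorem line_fix {p : ℕ} [hp : Fact p.Prime] [CharP F p] {y : AddMonoid.End (Fin 2 → F)} {k : ℕ}
    (hy : y ^ p ^ k = 1) (hl : ∀ a : F, ∃ b : F, y ![a, 0] = ![b, 0])
    (hc : ∀ l : F, l ≠ 0 → ∃ m : F, y * mv !![l, 0; 0, l⁻¹] = mv (up m) * mv !![l, 0; 0, l⁻¹] * y) (a : F) :
    y ![a, 0] = ![a, 0] := by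
  obtain ⟨c, hc1⟩ := hl 1
  have h1 : ∀ l : F, y ![l, 0] = ![c * l, 0] := by
    intro l
    by_cases hl0 : l = 0
    · subst hl0
      have : (![0, 0] : Fin 2 → F) = 0 := by funext i; fin_cases i <;> rfl
      rw [mul_zero, this, map_zero]
    · obtain ⟨m, hm⟩ := hc l hl0
      have h2 := congrArg (fun f : AddMonoid.End (Fin 2 → F) => f ![1, 0]) hm
      simp only [end_mul_apply] at h2
      rw [mv_diag_line, hc1, mv_diag_line, mv_up_line, mul_one] at h2
      rw [h2, mul_comm]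
  have h3 : ∀ (n : ℕ) (l : F), (y ^ n) ![l, 0] = ![c ^ n * l, 0] := by
    intro n
    induction n with
    | zero => intro l; rw [pow_zero, pow_zero, one_mul]; rfl
    | succ n ih =>
      intro l
      rw [pow_succ, end_mul_apply, h1, ih, pow_succ, mul_assoc]
  have h4 := h3 (p ^ k) 1
  rw [hy, end_one_apply, mul_one] at h4
  have h5 := congrFun h4 0
  simp at h5
  have h6 : c = 1 := eq_one_of_pow h5.symm
  rw [h1, h6, one_mul]

/-- the centraliser of `SL₂(F)` in `M₂(F)`. -/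
theorem scalar_of_comm {N : Matrix (Fin 2) (Fin 2) F} (h1 : N * up 1 = up 1 * N)
    (h2 : N * !![1, 0; 1, 1] = !![1, 0; 1, 1] * N) : ∃ m : F, N = m • 1 := by
  refine ⟨N 0 0, ?_⟩
  have a1 := congrFun (congrFun h1 0) 0
  have a2 := congrFun (congrFun h1 0) 1
  have b1 := congrFun (congrFun h2 0) 0
  simp [up, Matrix.mul_apply, Fin.sum_univ_two] at a1 a2 b1
  ext i j
  fin_cases i <;> fin_cases j
  · simp
  · simpa using b1
  · simpa using a1
  · simp; linear_combination -a2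

/-- an additive automorphism of `F²` normalising `SL₂(F)` and trivial on the line `(*, 0)` is `F`-linear. -/
theorem lin_of_norm {y yi : AddMonoid.End (Fin 2 → F)} (h1 : y * yi = 1) (h2 : yi * y = 1)
    (hn : ∀ A : Matrix.SpecialLinearGroup (Fin 2) F, ∃ B : Matrix (Fin 2) (Fin 2) F,
      y * mv (A : Matrix (Fin 2) (Fin 2) F) * yi = mv B)
    (hn' : ∀ A : Matrix.SpecialLinearGroup (Fin 2) F, ∃ B : Matrix (Fin 2) (Fin 2) F,
      yi * mv (A : Matrix (Fin 2) (Fin 2) F) * y = mv B)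
    (hf : ∀ a : F, y ![a, 0] = ![a, 0]) : ∃ b d : F, y = mv !![1, b; 0, d] := by
  have hfi : ∀ a : F, yi ![a, 0] = ![a, 0] := by
    intro a
    have := congrArg (fun f : AddMonoid.End (Fin 2 → F) => f ![a, 0]) h2
    simp only [end_mul_apply, end_one_apply] at this
    rwa [hf] at this
  -- `y` commutes with the scalars
  have key : ∀ l : F, y * mv (l • 1) = mv (l • 1) * y := by
    intro l
    obtain ⟨B, hB⟩ := hn ⟨up l, by simp [up, Matrix.det_fin_two]⟩
    obtain ⟨B', hB'⟩ := hn ⟨!![1, 0; 1, 1], by simp [Matrix.det_fin_two]⟩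
    change y * mv (up l) * yi = mv B at hB
    change y * mv !![1, 0; 1, 1] * yi = mv B' at hB'
    have e0 : (l • (1 : Matrix (Fin 2) (Fin 2) F)) =
        (up l - 1) * (!![1, 0; 1, 1] - 1) + (!![1, 0; 1, 1] - 1) * (up l - 1) := by
      ext i j
      fin_cases i <;> fin_cases j <;> simp [up, Matrix.mul_apply, Fin.sum_univ_two]
    have e1 : y * mv (l • 1) * yi = mv ((B - 1) * (B' - 1) + (B' - 1) * (B - 1)) := by
      rw [e0]
      simp only [map_add, map_mul, map_sub, map_one]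
      rw [← hB, ← hB']
      have a1 : ∀ X X' : AddMonoid.End (Fin 2 → F), y * ((X - 1) * (X' - 1)) * yi =
          (y * X * yi - 1) * (y * X' * yi - 1) := by
        intro X X'
        have b1 : ∀ Y : AddMonoid.End (Fin 2 → F), y * (Y - 1) * yi = y * Y * yi - 1 := by
          intro Y
          rw [mul_sub, sub_mul, mul_one, h1]
        rw [← b1, ← b1]
        calc y * ((X - 1) * (X' - 1)) * yi = y * ((X - 1) * (1 * (X' - 1))) * yi := by rw [one_mul]
          _ = y * ((X - 1) * ((yi * y) * (X' - 1))) * yi := by rw [h2]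
          _ = _ := by noncomm_ring
      rw [mul_add, add_mul, a1, a1]
    set N := (B - 1) * (B' - 1) + (B' - 1) * (B - 1) with hN
    have hcm : ∀ A : Matrix.SpecialLinearGroup (Fin 2) F, N * (A : Matrix (Fin 2) (Fin 2) F) = A * N := by
      intro A
      apply mv_inj
      obtain ⟨B2, hB2⟩ := hn' A
      rw [map_mul, map_mul, ← e1]
      have e2 : mv (l • 1) * mv B2 = mv B2 * mv (l • 1) := by
        rw [← map_mul, ← map_mul]; simp
      have e3 : yi * mv (A : Matrix (Fin 2) (Fin 2) F) = mv B2 * yi := by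
        rw [← hB2, mul_assoc _ y yi, h1, mul_one]
      have e4 : y * mv B2 = mv (A : Matrix (Fin 2) (Fin 2) F) * y := by
        rw [← hB2, ← mul_assoc, ← mul_assoc, h1, one_mul]
      calc y * mv (l • 1) * yi * mv (A : Matrix (Fin 2) (Fin 2) F)
          = y * mv (l • 1) * (yi * mv (A : Matrix (Fin 2) (Fin 2) F)) := by rw [mul_assoc]
        _ = y * (mv (l • 1) * mv B2) * yi := by rw [e3]; noncomm_ring
        _ = (y * mv B2) * mv (l • 1) * yi := by rw [e2]; noncomm_ring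
        _ = mv (A : Matrix (Fin 2) (Fin 2) F) * (y * mv (l • 1) * yi) := by rw [e4]; noncomm_ring
    obtain ⟨m, hm⟩ := scalar_of_comm (N := N)
      (hcm ⟨up 1, by simp [up, Matrix.det_fin_two]⟩) (hcm ⟨!![1, 0; 1, 1], by simp [Matrix.det_fin_two]⟩)
    rw [hm] at e1
    have e5 := congrArg (fun f : AddMonoid.End (Fin 2 → F) => f ![1, 0]) e1
    simp only [end_mul_apply, hfi] at e5
    have e6 : ∀ c : F, mv (c • 1) ![(1 : F), 0] = ![c, 0] := by
      intro c
      rw [mv_apply]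
      funext i
      fin_cases i <;> simp [Matrix.smul_mulVec]
    rw [e6, e6, hf] at e5
    have e7 : l = m := by simpa using congrFun e5 0
    rw [← e7] at e1
    calc y * mv (l • 1) = y * mv (l • 1) * (yi * y) := by rw [h2, mul_one]
      _ = (y * mv (l • 1) * yi) * y := by noncomm_ring
      _ = _ := by rw [e1]
  have key' : ∀ (l : F) (v : Fin 2 → F), y (l • v) = l • y v := by
    intro l v
    have := congrArg (fun f : AddMonoid.End (Fin 2 → F) => f v) (key l)
    simp only [end_mul_apply, mv_apply, Matrix.smul_mulVec, Matrix.one_mulVec] at this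
    exact this
  refine ⟨(y ![0, 1]) 0, (y ![0, 1]) 1, ?_⟩
  apply AddMonoidHom.ext
  intro v
  have e1 : v = v 0 • ![1, 0] + v 1 • ![0, 1] := by
    funext i; fin_cases i <;> simp
  have e2 : y v = v 0 • ![1, 0] + v 1 • y ![0, 1] := by
    conv_lhs => rw [e1]
    rw [map_add, key', key', hf]
  change y v = Matrix.mulVec !![1, (y ![0, 1]) 0; 0, (y ![0, 1]) 1] v
  rw [e2]
  funext i
  fin_cases i
  · simp [Matrix.mulVec, dotProduct, Fin.sum_univ_two]; ring
  · simp [Matrix.mulVec, dotProduct, Fin.sum_univ_two]; ring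

/-- a normal subgroup of `SL₂(F)` containing the upper unitriangular matrices is everything. -/
theorem sl_top {X : Subgroup (Matrix.SpecialLinearGroup (Fin 2) F)} (hn : ∀ g, ∀ x ∈ X, g * x * g⁻¹ ∈ X)
    (hu : ∀ a : F, ∀ A : Matrix.SpecialLinearGroup (Fin 2) F, (A : Matrix (Fin 2) (Fin 2) F) = up a → A ∈ X)
    (A : Matrix.SpecialLinearGroup (Fin 2) F) : A ∈ X := by
  let U : F → Matrix.SpecialLinearGroup (Fin 2) F := fun a => ⟨up a, by simp [up, Matrix.det_fin_two]⟩
  let L : F → Matrix.SpecialLinearGroup (Fin 2) F := fun a => ⟨!![1, 0; a, 1], by simp [Matrix.det_fin_two]⟩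
  let w : Matrix.SpecialLinearGroup (Fin 2) F := ⟨!![0, -1; 1, 0], by simp [Matrix.det_fin_two]⟩
  have hU : ∀ a, U a ∈ X := fun a => hu a _ rfl
  have hL : ∀ a, L a ∈ X := by
    intro a
    have h1 : L a = w * U (-a) * w⁻¹ := by
      rw [eq_mul_inv_iff_mul_eq]
      apply Subtype.ext
      rw [Matrix.SpecialLinearGroup.coe_mul, Matrix.SpecialLinearGroup.coe_mul]
      change (!![1, 0; a, 1] : Matrix (Fin 2) (Fin 2) F) * !![0, -1; 1, 0] = !![0, -1; 1, 0] * !![1, -a; 0, 1]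
      ext i j
      fin_cases i <;> fin_cases j <;> simp [Matrix.mul_apply, Fin.sum_univ_two]
    rw [h1]
    exact hn _ _ (hU _)
  have hc : ∀ B : Matrix.SpecialLinearGroup (Fin 2) F, (B : Matrix (Fin 2) (Fin 2) F) 1 0 ≠ 0 → B ∈ X := by
    intro B hB
    have hdet : (B : Matrix (Fin 2) (Fin 2) F) 0 0 * (B : Matrix (Fin 2) (Fin 2) F) 1 1 -
        (B : Matrix (Fin 2) (Fin 2) F) 0 1 * (B : Matrix (Fin 2) (Fin 2) F) 1 0 = 1 := by
      rw [← Matrix.det_fin_two]; exact B.2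
    set a := (B : Matrix (Fin 2) (Fin 2) F) 0 0
    set b := (B : Matrix (Fin 2) (Fin 2) F) 0 1
    set c := (B : Matrix (Fin 2) (Fin 2) F) 1 0 with hcc
    set d := (B : Matrix (Fin 2) (Fin 2) F) 1 1
    have h1 : B = U ((a - 1) / c) * L c * U ((d - 1) / c) := by
      apply Subtype.ext
      rw [Matrix.SpecialLinearGroup.coe_mul, Matrix.SpecialLinearGroup.coe_mul]
      change (B : Matrix (Fin 2) (Fin 2) F) = (!![1, (a - 1) / c; 0, 1] : Matrix (Fin 2) (Fin 2) F) * !![1, 0; c, 1] *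
        !![1, (d - 1) / c; 0, 1]
      ext i j
      fin_cases i <;> fin_cases j
      · simp [Matrix.mul_apply, Fin.sum_univ_two]
        change a = _
        field_simp; ring
      · simp [Matrix.mul_apply, Fin.sum_univ_two]
        change b = _
        field_simp
        linear_combination (-1 : F) * hdet
      · simp [Matrix.mul_apply, Fin.sum_univ_two]
        rfl
      · simp [Matrix.mul_apply, Fin.sum_univ_two]
        change d = _
        field_simp; ring
    rw [h1]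
    exact X.mul_mem (X.mul_mem (hU _) (hL _)) (hU _)
  by_cases hA : (A : Matrix (Fin 2) (Fin 2) F) 1 0 = 0
  · have hdet : (A : Matrix (Fin 2) (Fin 2) F) 0 0 * (A : Matrix (Fin 2) (Fin 2) F) 1 1 -
        (A : Matrix (Fin 2) (Fin 2) F) 0 1 * (A : Matrix (Fin 2) (Fin 2) F) 1 0 = 1 := by
      rw [← Matrix.det_fin_two]; exact A.2
    rw [hA, mul_zero, sub_zero] at hdet
    have hd : (A : Matrix (Fin 2) (Fin 2) F) 1 1 ≠ 0 := right_ne_zero_of_mul (hdet ▸ one_ne_zero)
    have h1 : A * L 1 ∈ X := by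
      apply hc
      have : ((A * L 1 : Matrix.SpecialLinearGroup (Fin 2) F) : Matrix (Fin 2) (Fin 2) F) 1 0 =
          (A : Matrix (Fin 2) (Fin 2) F) 1 0 + (A : Matrix (Fin 2) (Fin 2) F) 1 1 := by
        rw [Matrix.SpecialLinearGroup.coe_mul]
        change ((A : Matrix (Fin 2) (Fin 2) F) * (!![1, 0; 1, 1] : Matrix (Fin 2) (Fin 2) F)) 1 0 = _
        simp [Matrix.mul_apply, Fin.sum_univ_two]
      rw [this, hA, zero_add]
      exact hd
    have h2 := X.mul_mem h1 (X.inv_mem (hL 1))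
    simpa using h2
  · exact hc A hA

end Mat

/-! ### the action of group elements on `W ≅ F²` -/

section Act

variable {H : Type*} [Group H] {F : Type} [Field F]

/-- `x` acts on `W` as `f`. -/
def Act {W : Subgroup H} (ψ : Additive ↥W ≃+ (Fin 2 → F)) (x : H) (f : AddMonoid.End (Fin 2 → F)) : Prop :=
  ∀ w : ↥W, ∃ w' : ↥W, (w' : H) = x * (w : H) * x⁻¹ ∧ ψ (Additive.ofMul w') = f (ψ (Additive.ofMul w))

variable {W : Subgroup H} {ψ : Additive ↥W ≃+ (Fin 2 → F)}

theorem Act.mul {x y : H} {f g : AddMonoid.End (Fin 2 → F)} (hx : Act ψ x f) (hy : Act ψ y g) :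
    Act ψ (x * y) (f * g) := by
  intro w
  obtain ⟨w1, h1, h2⟩ := hy w
  obtain ⟨w2, h3, h4⟩ := hx w1
  refine ⟨w2, ?_, ?_⟩
  · rw [h3, h1]; group
  · rw [h4, h2]; rfl

theorem Act.one : Act ψ 1 1 := fun w => ⟨w, by simp, rfl⟩

theorem Act.pow {x : H} {f : AddMonoid.End (Fin 2 → F)} (hx : Act ψ x f) (n : ℕ) : Act ψ (x ^ n) (f ^ n) := by
  induction n with
  | zero => rw [pow_zero, pow_zero]; exact Act.one
  | succ n ih => rw [pow_succ, pow_succ]; exact ih.mul hx

theorem Act.unique {x : H} {f g : AddMonoid.End (Fin 2 → F)} (hx : Act ψ x f) (hx' : Act ψ x g) : f = g := by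
  apply AddMonoidHom.ext
  intro v
  obtain ⟨w1, h1, h2⟩ := hx (Additive.toMul (ψ.symm v))
  obtain ⟨w2, h3, h4⟩ := hx' (Additive.toMul (ψ.symm v))
  have h5 : w1 = w2 := Subtype.ext (h1.trans h3.symm)
  rw [ofMul_toMul, AddEquiv.apply_symm_apply] at h2 h4
  change f v = g v
  rw [← h2, ← h4, h5]

theorem Act.exists {x : H} (hx : x ∈ normalizer (W : Set H)) : ∃ f : AddMonoid.End (Fin 2 → F), Act ψ x f := by
  have hm : ∀ w : ↥W, x * (w : H) * x⁻¹ ∈ W := fun w => (mem_normalizer_iff.1 hx _).1 w.2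
  let g : ↥W →* ↥W :=
    { toFun := fun w => ⟨x * (w : H) * x⁻¹, hm w⟩
      map_one' := Subtype.ext (by simp)
      map_mul' := fun a b => Subtype.ext (by simp [mul_assoc]) }
  refine ⟨((ψ : Additive ↥W →+ (Fin 2 → F)).comp (MonoidHom.toAdditive g)).comp
    (ψ.symm : (Fin 2 → F) →+ Additive ↥W), ?_⟩
  intro w
  refine ⟨g w, rfl, ?_⟩
  change _ = ψ (MonoidHom.toAdditive g (ψ.symm (ψ (Additive.ofMul w))))
  rw [AddEquiv.symm_apply_apply]
  rfl

theorem Act.eq_mul {x : H} {f : AddMonoid.End (Fin 2 → F)} (hx : Act ψ x f) {w w' : ↥W}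
    (h : ψ (Additive.ofMul w') = f (ψ (Additive.ofMul w))) : (w' : H) = x * w * x⁻¹ := by
  obtain ⟨w1, h1, h2⟩ := hx w
  have h3 : w' = w1 := Additive.ofMul.injective (ψ.injective (h.trans h2.symm))
  rw [h3, h1]

/-- an element acting trivially centralises `W`. -/
theorem Act.mem_centralizer {x : H} (hx : Act ψ x (1 : AddMonoid.End (Fin 2 → F))) :
    x ∈ centralizer (W : Set H) := by
  rw [mem_centralizer_iff]
  intro w hw
  have := hx.eq_mul (w := ⟨w, hw⟩) (w' := ⟨w, hw⟩) rfl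
  change w = x * w * x⁻¹ at this
  calc w * x = (x * w * x⁻¹) * x := by rw [← this]
    _ = x * w := by group

theorem Act.of_centralizer {x : H} (hx : x ∈ centralizer (W : Set H)) :
    Act ψ x (1 : AddMonoid.End (Fin 2 → F)) := by
  intro w
  refine ⟨w, ?_, rfl⟩
  have := mem_centralizer_iff.1 hx w w.2
  rw [← this]; group

/-- elements of `p`-groups act with `p`-power order. -/
theorem Act.pow_eq {p : ℕ} {x : H} {f : AddMonoid.End (Fin 2 → F)} (hx : Act ψ x f) {T : Subgroup H}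
    (hT : IsPGroup p ↥T) (hxT : x ∈ T) : ∃ k : ℕ, f ^ p ^ k = 1 := by
  obtain ⟨k, hk⟩ := hT ⟨x, hxT⟩
  refine ⟨k, ?_⟩
  have h1 : x ^ p ^ k = 1 := by simpa using congrArg Subtype.val hk
  have h2 := hx.pow (p ^ k)
  rw [h1] at h2
  exact h2.unique Act.one

end Act

/-! ### the structure `AStr` -/

theorem charP_of_card {F : Type} [Field F] [Fintype F] {p : ℕ} [hp : Fact p.Prime]
    (h : ∃ n : ℕ, 1 ≤ n ∧ Fintype.card F = p ^ n) : CharP F p := by
  obtain ⟨n, hn, hc⟩ := h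
  obtain ⟨q, hq⟩ := CharP.exists F
  obtain ⟨m, hqp, hm⟩ := FiniteField.card F q
  have h1 : p ∣ q := by
    have : p ∣ q ^ (m : ℕ) := by
      rw [← hm, hc]; exact dvd_pow_self p (by omega)
    exact hp.out.dvd_of_dvd_pow this
  have h2 : p = q := (Nat.prime_dvd_prime_iff_eq hp.out hqp).1 h1
  rw [h2]; exact hq

section

variable {H : Type*} [Group H] [Finite H] {p : ℕ} [Fact p.Prime] {S : Sylow p H} {Z C Q P V D J R : Subgroup H}
  {r : ℕ} {E W : Fin r → Subgroup H} {F : Type} [Field F] [Fintype F]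

theorem ea_V (h : AStr p S Z C Q P V D J R E W F) : IsElementaryAbelian p V := by
  rw [h.V_eq]; exact largest_ea p P

theorem norm_V (h : AStr p S Z C Q P V D J R E W F) : P ≤ normalizer (V : Set H) := by
  rw [h.V_eq]; exact largest_normal p P

theorem J_le (h : AStr p S Z C Q P V D J R E W F) : J ≤ P := by
  rw [h.J_eq]; exact iSup_le h.E_le

theorem E_le_J (h : AStr p S Z C Q P V D J R E W F) (i : Fin r) : E i ≤ J := by
  rw [h.J_eq]; exact le_iSup E i

theorem E_norm (h : AStr p S Z C Q P V D J R E W F) (i j : Fin r) : E j ≤ normalizer (E i : Set H) := by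
  by_cases hij : j = i
  · subst hij; exact le_normalizer
  · rw [le_norm_iff_comm_le]
    refine le_trans (le_inf ?_ (h.comm j i hij)) (h.le_E i)
    rw [commutator_le]
    intro a ha b hb
    rw [commutatorElement_def]
    exact P.mul_mem (P.mul_mem (P.mul_mem (h.E_le j ha) (h.E_le i hb)) (P.inv_mem (h.E_le j ha)))
      (P.inv_mem (h.E_le i hb))

theorem J_norm_E (h : AStr p S Z C Q P V D J R E W F) (i : Fin r) : J ≤ normalizer (E i : Set H) := by
  rw [h.J_eq]; exact iSup_le fun j => E_norm h i j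

/-- elements of `J` act on `W i` as elements of `SL₂(F)`. -/
theorem act_J (h : AStr p S Z C Q P V D J R E W F) (i : Fin r)
    {ρ : ↥(E i) →* Matrix.SpecialLinearGroup (Fin 2) F} {ψ : Additive ↥(W i) ≃+ (Fin 2 → F)}
    (ha : ∀ x : ↥(E i), Act ψ (x : H) (mv (ρ x : Matrix (Fin 2) (Fin 2) F))) {x : H} (hx : x ∈ J) :
    ∃ A : Matrix.SpecialLinearGroup (Fin 2) F, Act ψ x (mv (A : Matrix (Fin 2) (Fin 2) F)) := by
  rw [h.J_eq] at hx
  refine Subgroup.iSup_induction (C := fun x => ∃ A : Matrix.SpecialLinearGroup (Fin 2) F,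
    Act ψ x (mv (A : Matrix (Fin 2) (Fin 2) F))) E hx ?_ ?_ ?_
  · intro j x hx
    by_cases hij : i = j
    · subst hij
      exact ⟨ρ ⟨x, hx⟩, ha ⟨x, hx⟩⟩
    · refine ⟨1, ?_⟩
      have h1 : x ∈ centralizer (W i : Set H) := le_centralizer_comm (h.fix i j hij) hx
      rw [Matrix.SpecialLinearGroup.coe_one, map_one]
      exact Act.of_centralizer h1
  · exact ⟨1, by rw [Matrix.SpecialLinearGroup.coe_one, map_one]; exact Act.one⟩
  · rintro x y ⟨A, hA⟩ ⟨B, hB⟩
    refine ⟨A * B, ?_⟩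
    rw [Matrix.SpecialLinearGroup.coe_mul, map_mul]
    exact hA.mul hB

/-- elements of `S ∩ J` act as upper unitriangular matrices. -/
theorem act_S (h : AStr p S Z C Q P V D J R E W F) (i : Fin r)
    {ρ : ↥(E i) →* Matrix.SpecialLinearGroup (Fin 2) F} {ψ : Additive ↥(W i) ≃+ (Fin 2 → F)}
    (ha : ∀ x : ↥(E i), Act ψ (x : H) (mv (ρ x : Matrix (Fin 2) (Fin 2) F)))
    (h1 : ∀ x : ↥(E i), (x : H) ∈ (S : Subgroup H) → ∃ a : F, (ρ x : Matrix (Fin 2) (Fin 2) F) = up a)
    (h2 : ∀ a : F, ∃ x : ↥(E i), (x : H) ∈ (S : Subgroup H) ∧ (ρ x : Matrix (Fin 2) (Fin 2) F) = up a)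
    {x : H} (hxS : x ∈ (S : Subgroup H)) (hx : x ∈ J) : ∃ a : F, Act ψ x (mv (up a)) := by
  have := charP_of_card h.cardF
  obtain ⟨A, hA⟩ := act_J h i ha hx
  obtain ⟨u, huS, hu⟩ := h2 1
  have hn : x * (u : H) * x⁻¹ ∈ E i := (mem_normalizer_iff.1 (J_norm_E h i hx) _).1 u.2
  have hS : x * (u : H) * x⁻¹ ∈ (S : Subgroup H) :=
    (S : Subgroup H).mul_mem ((S : Subgroup H).mul_mem hxS huS) ((S : Subgroup H).inv_mem hxS)
  obtain ⟨b, hb⟩ := h1 ⟨_, hn⟩ hS
  have e1 := ha ⟨_, hn⟩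
  rw [hb] at e1
  have e2 : Act ψ (x * (u : H) * x⁻¹ * x) (mv (up b) * mv (A : Matrix (Fin 2) (Fin 2) F)) := e1.mul hA
  have e3 : Act ψ (x * (u : H)) (mv (A : Matrix (Fin 2) (Fin 2) F) * mv (up 1)) := by
    have := ha u
    rw [hu] at this
    exact hA.mul this
  have e4 : x * (u : H) * x⁻¹ * x = x * (u : H) := by group
  rw [e4] at e2
  have e5 := e2.unique e3
  rw [← map_mul, ← map_mul] at e5
  have e6 := mv_inj e5
  have e7 := congrFun (congrFun e6 1) 1
  simp [up, Matrix.mul_apply, Fin.sum_univ_two] at e7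
  have e8 : (A : Matrix (Fin 2) (Fin 2) F) = !![(A : Matrix (Fin 2) (Fin 2) F) 0 0,
      (A : Matrix (Fin 2) (Fin 2) F) 0 1; 0, (A : Matrix (Fin 2) (Fin 2) F) 1 1] := by
    ext i j
    fin_cases i <;> fin_cases j <;> simp [e7]
  obtain ⟨k, hk⟩ := hA.pow_eq S.2 hxS
  rw [← map_pow, ← map_one mv] at hk
  have e9 := mv_inj hk
  rw [e8] at e9
  obtain ⟨e10, e11⟩ := unip_of_pow e9
  refine ⟨(A : Matrix (Fin 2) (Fin 2) F) 0 1, ?_⟩
  rw [e8, e10, e11] at hA
  exact hA

/-- the vectors `(a, 0)` of `W i` lie in `R`. -/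
theorem line_mem_R (h : AStr p S Z C Q P V D J R E W F) (i : Fin r)
    {ρ : ↥(E i) →* Matrix.SpecialLinearGroup (Fin 2) F} {ψ : Additive ↥(W i) ≃+ (Fin 2 → F)}
    (ha : ∀ x : ↥(E i), Act ψ (x : H) (mv (ρ x : Matrix (Fin 2) (Fin 2) F)))
    (h1 : ∀ x : ↥(E i), (x : H) ∈ (S : Subgroup H) → ∃ a : F, (ρ x : Matrix (Fin 2) (Fin 2) F) = up a)
    (h2 : ∀ a : F, ∃ x : ↥(E i), (x : H) ∈ (S : Subgroup H) ∧ (ρ x : Matrix (Fin 2) (Fin 2) F) = up a)
    {w : ↥(W i)} {a : F} (hw : ψ (Additive.ofMul w) = ![a, 0]) : (w : H) ∈ R := by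
  rw [h.R_eq]
  refine ⟨h.W_le i w.2, ?_⟩
  change (w : H) ∈ centralizer _
  rw [mem_centralizer_iff]
  rintro x ⟨hxS, hxJ⟩
  obtain ⟨b, hb⟩ := act_S h i ha h1 h2 hxS hxJ
  have h3 := hb.eq_mul (w := w) (w' := w) (by rw [hw, mv_up_line])
  calc x * (w : H) = x * (w : H) * x⁻¹ * x := by group
    _ = (w : H) * x := by rw [← h3]

/-- the `W i`-component of an element of `R`. -/
theorem R_comp (h : AStr p S Z C Q P V D J R E W F) (i : Fin r)
    {ρ : ↥(E i) →* Matrix.SpecialLinearGroup (Fin 2) F} {ψ : Additive ↥(W i) ≃+ (Fin 2 → F)}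
    (ha : ∀ x : ↥(E i), Act ψ (x : H) (mv (ρ x : Matrix (Fin 2) (Fin 2) F)))
    (h2 : ∀ a : F, ∃ x : ↥(E i), (x : H) ∈ (S : Subgroup H) ∧ (ρ x : Matrix (Fin 2) (Fin 2) F) = up a)
    {v : H} (hv : v ∈ R) : ∃ (w : ↥(W i)) (a : F), ψ (Additive.ofMul w) = ![a, 0] ∧
      (w : H)⁻¹ * v ∈ centralizer (E i : Set H) := by
  have hab : V ≤ centralizer (V : Set H) := ea_le_centralizer (ea_V h)
  rw [h.R_eq] at hv
  obtain ⟨hvV, hvc⟩ := hv
  have hvV' : v ∈ V := hvV
  set W' : Subgroup H := ⨆ j ∈ {j | j ≠ i}, W j with hW'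
  have hW'V : W' ≤ V := iSup₂_le fun j _ => h.W_le j
  have hsup : W i ⊔ W' = V := by
    rw [← h.W_sup]
    apply le_antisymm
    · exact sup_le (le_iSup W i) (iSup₂_le fun j _ => le_iSup W j)
    · refine iSup_le fun j => ?_
      by_cases hj : j = i
      · subst hj; exact le_sup_left
      · exact le_trans (le_iSup₂_of_le j hj le_rfl) le_sup_right
  have hnorm : W' ≤ normalizer (W i : Set H) :=
    hW'V.trans (hab.trans ((Subgroup.centralizer_le (h.W_le i)).trans (centralizer_le_norm _)))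
  rw [← hsup] at hvV'
  obtain ⟨w, hw, v', hv', hwv⟩ := (mem_sup_of_norm hnorm).1 hvV'
  have hc : W' ≤ centralizer (E i : Set H) := iSup₂_le fun j hj => h.fix j i hj
  have hv'c : v' ∈ centralizer (E i : Set H) := hc hv'
  obtain ⟨u, huS, hu⟩ := h2 1
  have e1 : (u : H) * v = v * (u : H) := (mem_centralizer_iff.1 hvc) _ ⟨huS, E_le_J h i u.2⟩
  have e2 : (u : H) * v' = v' * (u : H) := (mem_centralizer_iff.1 hv'c) _ u.2
  have e3 : (u : H) * w = w * (u : H) := by
    have : w = v * v'⁻¹ := by rw [← hwv]; group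
    rw [this]
    have e4 : (u : H) * v'⁻¹ = v'⁻¹ * (u : H) := by
      rw [eq_inv_mul_iff_mul_eq, ← mul_assoc, ← e2]; group
    calc (u : H) * (v * v'⁻¹) = ((u : H) * v) * v'⁻¹ := by group
      _ = v * ((u : H) * v'⁻¹) := by rw [e1]; group
      _ = v * v'⁻¹ * (u : H) := by rw [e4]; group
  obtain ⟨w1, h3, h4⟩ := ha u ⟨w, hw⟩
  have e5 : w1 = ⟨w, hw⟩ := by
    apply Subtype.ext
    rw [h3]
    change (u : H) * w * (u : H)⁻¹ = w
    rw [e3]; group
  rw [e5, hu] at h4
  set q := ψ (Additive.ofMul (⟨w, hw⟩ : ↥(W i))) with hq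
  have e6 := congrFun h4 0
  rw [mv_apply] at e6
  simp [up, Matrix.mulVec, dotProduct, Fin.sum_univ_two] at e6
  refine ⟨⟨w, hw⟩, q 0, ?_, ?_⟩
  · rw [← hq]
    funext j
    fin_cases j
    · rfl
    · simpa using e6
  · have : (w : H)⁻¹ * v = v' := by rw [← hwv]; group
    change w⁻¹ * v ∈ _
    rw [this]
    exact hv'c

/-- diagonal elements of `E i` normalise `R`. -/
theorem torus_norm (h : AStr p S Z C Q P V D J R E W F) (i : Fin r)
    {ρ : ↥(E i) →* Matrix.SpecialLinearGroup (Fin 2) F} {ψ : Additive ↥(W i) ≃+ (Fin 2 → F)}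
    (ha : ∀ x : ↥(E i), Act ψ (x : H) (mv (ρ x : Matrix (Fin 2) (Fin 2) F)))
    (h1 : ∀ x : ↥(E i), (x : H) ∈ (S : Subgroup H) → ∃ a : F, (ρ x : Matrix (Fin 2) (Fin 2) F) = up a)
    (h2 : ∀ a : F, ∃ x : ↥(E i), (x : H) ∈ (S : Subgroup H) ∧ (ρ x : Matrix (Fin 2) (Fin 2) F) = up a)
    {t : ↥(E i)} {l l' : F} (ht : (ρ t : Matrix (Fin 2) (Fin 2) F) = !![l, 0; 0, l']) :
    (t : H) ∈ normalizer (R : Set H) := by
  have key : cj (t : H) R ≤ R := by
    rintro _ ⟨v, hv, rfl⟩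
    obtain ⟨w, a, hw, hc⟩ := R_comp h i ha h2 hv
    obtain ⟨w1, h3, h4⟩ := ha t w
    rw [hw, ht, mv_diag_line] at h4
    have h5 := line_mem_R h i ha h1 h2 hw
    have h6 := line_mem_R h i ha h1 h2 h4
    have h7 : (t : H) * ((w : H)⁻¹ * v) = ((w : H)⁻¹ * v) * (t : H) := (mem_centralizer_iff.1 hc) _ t.2
    have h8 : (MulAut.conj (t : H)).toMonoidHom v = (w1 : H) * ((w : H)⁻¹ * v) := by
      change (t : H) * v * (t : H)⁻¹ = _
      calc (t : H) * v * (t : H)⁻¹ = ((t : H) * w * (t : H)⁻¹) * ((t : H) * ((w : H)⁻¹ * v) * (t : H)⁻¹) := by group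
        _ = (w1 : H) * (((w : H)⁻¹ * v * (t : H)) * (t : H)⁻¹) := by rw [h7, h3]
        _ = _ := by group
    rw [h8]
    exact R.mul_mem h6 (R.mul_mem (R.inv_mem h5) hv)
  rw [mem_norm]
  apply Subgroup.eq_of_le_of_card_ge key
  exact le_of_eq (Nat.card_congr (R.equivMapOfInjective _ (MulAut.conj (t : H)).injective).toEquiv)

theorem R_ne_bot (h : AStr p S Z C Q P V D J R E W F) : R ≠ ⊥ := by
  obtain ⟨c, hc, h1⟩ := h.ex
  rw [(h.adj c hc h1).2.1] at h1
  exact h1

theorem R_le_V (h : AStr p S Z C Q P V D J R E W F) : R ≤ V := by rw [h.R_eq]; exact inf_le_left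

theorem norm_R_le (h : AStr p S Z C Q P V D J R E W F) (hR : C ≤ normalizer (R : Set H)) :
    normalizer (R : Set H) = C := by
  apply h.hyp.hCmax _ ⟨R, ?_, R_ne_bot h, rfl⟩ hR
  exact isPGroup_mono (R_le_V h) (ea_isPGroup (ea_V h))

/-- `(gamma)`: `r = 1` if `|F| > 2`. -/
theorem one_of_gt (h : AStr p S Z C Q P V D J R E W F) (hR : C ≤ normalizer (R : Set H))
    (hF : 2 < Fintype.card F) : r = 1 := by
  classical
  have := charP_of_card h.cardF
  by_contra hr
  have hpos := h.pos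
  let i0 : Fin r := ⟨0, by omega⟩
  let i1 : Fin r := ⟨1, by omega⟩
  have hne : i0 ≠ i1 := by
    intro h1
    have := congrArg Fin.val h1
    simp [i0, i1] at this
  obtain ⟨ρ, ψ, hρ, ha, h1, h2⟩ := h.nat i0
  have ha' : ∀ x : ↥(E i0), Act ψ (x : H) (mv (ρ x : Matrix (Fin 2) (Fin 2) F)) := ha
  -- a scalar `l ≠ 0, 1`
  obtain ⟨l, hl⟩ : ∃ l : F, l ≠ 0 ∧ l ≠ 1 := by
    by_contra h3
    push Not at h3
    have h4 : (Finset.univ : Finset F) ⊆ {0, 1} := by
      intro x _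
      by_cases hx : x = 0
      · simp [hx]
      · simp [h3 x hx]
    have h5 := Finset.card_le_card h4
    have h6 : ({0, 1} : Finset F).card ≤ 2 := Finset.card_le_two
    rw [Finset.card_univ] at h5
    omega
  obtain ⟨t, ht⟩ := hρ ⟨!![l, 0; 0, l⁻¹], by simp [Matrix.det_fin_two, hl.1]⟩
  have ht' : (ρ t : Matrix (Fin 2) (Fin 2) F) = !![l, 0; 0, l⁻¹] := by rw [ht]
  have htC : (t : H) ∈ C := by
    rw [← norm_R_le h hR]
    exact torus_norm h i0 ha' h1 h2 ht'
  obtain ⟨y, hyQ, hy⟩ := h.trans i0 i1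
  have hQ1 : y * (t : H) * y⁻¹ * (t : H)⁻¹ ∈ Q := by
    have h3 := h.hyp.toHyp.cj_Q_of_mem htC
    have h4 : (t : H) * y⁻¹ * (t : H)⁻¹ ∈ Q := by
      rw [← h3]; exact conj_mem_cj (Q.inv_mem hyQ)
    have e : y * (t : H) * y⁻¹ * (t : H)⁻¹ = y * ((t : H) * y⁻¹ * (t : H)⁻¹) := by group
    rw [e]
    exact Q.mul_mem hyQ h4
  have hE1 : y * (t : H) * y⁻¹ ∈ E i1 := by
    rw [← hy]; exact conj_mem_cj t.2
  have hc1 : y * (t : H) * y⁻¹ ∈ centralizer (W i0 : Set H) := le_centralizer_comm (h.fix i0 i1 hne) hE1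
  have hact : Act ψ (y * (t : H) * y⁻¹ * (t : H)⁻¹) (1 * mv (ρ t⁻¹ : Matrix (Fin 2) (Fin 2) F)) :=
    (Act.of_centralizer hc1).mul (ha' t⁻¹)
  rw [one_mul, map_inv, Matrix.SpecialLinearGroup.coe_inv, ht', Matrix.adjugate_fin_two_of] at hact
  obtain ⟨k, hk⟩ := hact.pow_eq h.hyp.Q_pgroup hQ1
  rw [← map_pow, ← map_one mv] at hk
  have h5 := mv_inj hk
  rw [neg_zero] at h5
  exact hl.2 (unip_of_pow h5).2

/-- `(eps)`: the conclusion for `r = 1`. -/
theorem concl_aux {E W : Fin 1 → Subgroup H} (h : AStr p S Z C Q P V D J R E W F)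
    (hR : C ≤ normalizer (R : Set H)) (hV : V = W 0) (hJ : J = E 0) :
    Q ≤ J := by
  have := charP_of_card h.cardF
  obtain ⟨ρ, ψ, hρ, ha, h1, h2⟩ := h.nat 0
  have ha' : ∀ x : ↥(E 0), Act ψ (x : H) (mv (ρ x : Matrix (Fin 2) (Fin 2) F)) := ha
  intro y hy
  have hyS : y ∈ (S : Subgroup H) := h.hyp.Q_le_S hy
  have hyP : y ∈ P := h.hyp.Q_le_P hy
  have hyC : y ∈ C := h.hyp.Q_le_C hy
  have hyV : y ∈ normalizer (W 0 : Set H) := by rw [← hV]; exact norm_V h hyP
  have hyJ : y ∈ normalizer (J : Set H) := h.J_norm hyP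
  obtain ⟨f, hf⟩ := Act.exists (ψ := ψ) hyV
  obtain ⟨fi, hfi⟩ := Act.exists (ψ := ψ) (inv_mem hyV)
  have hff : f * fi = 1 := by
    have := hf.mul hfi
    rw [mul_inv_cancel] at this
    exact this.unique Act.one
  have hff' : fi * f = 1 := by
    have := hfi.mul hf
    rw [inv_mul_cancel] at this
    exact this.unique Act.one
  obtain ⟨k, hk⟩ := hf.pow_eq h.hyp.Q_pgroup hy
  -- `f` fixes the line pointwise
  have hline : ∀ a : F, f ![a, 0] = ![a, 0] := by
    intro a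
    refine line_fix (p := p) hk ?_ ?_ a
    · intro b
      set w : ↥(W 0) := Additive.toMul (ψ.symm ![b, 0]) with hw
      have hw' : ψ (Additive.ofMul w) = ![b, 0] := by
        rw [hw, ofMul_toMul, AddEquiv.apply_symm_apply]
      have h3 := line_mem_R h 0 ha' h1 h2 hw'
      obtain ⟨w1, h4, h5⟩ := hf w
      have h6 : (w1 : H) ∈ R := by
        rw [h4]
        exact (mem_normalizer_iff.1 (hR hyC) _).1 h3
      obtain ⟨w2, c, h7, h8⟩ := R_comp h 0 ha' h2 h6
      -- `w2⁻¹ * w1` centralises `E 0 = J` and lies in `W 0`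
      have h9 : (w2 : H)⁻¹ * (w1 : H) ∈ W 0 := (W 0).mul_mem ((W 0).inv_mem w2.2) w1.2
      have h10 : (⟨(w2 : H)⁻¹ * (w1 : H), h9⟩ : ↥(W 0)) = 1 := by
        obtain ⟨g, hg⟩ := hρ ⟨!![1, 0; 1, 1], by simp [Matrix.det_fin_two]⟩
        obtain ⟨u, huS, hu⟩ := h2 1
        set q := ψ (Additive.ofMul (⟨(w2 : H)⁻¹ * (w1 : H), h9⟩ : ↥(W 0))) with hq
        have fixq : ∀ x : ↥(E 0), (mv (ρ x : Matrix (Fin 2) (Fin 2) F)) q = q := by
          intro x
          obtain ⟨w3, a1, a2⟩ := ha' x ⟨(w2 : H)⁻¹ * (w1 : H), h9⟩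
          have a3 : w3 = ⟨(w2 : H)⁻¹ * (w1 : H), h9⟩ := by
            apply Subtype.ext
            rw [a1]
            have := (mem_centralizer_iff.1 h8) _ x.2
            change (x : H) * ((w2 : H)⁻¹ * (w1 : H)) * (x : H)⁻¹ = _
            rw [this]; group
          rw [a3] at a2
          exact a2.symm
        have b1 := congrFun (fixq u) 0
        rw [hu, mv_apply] at b1
        simp [Matrix.mulVec, dotProduct, Fin.sum_univ_two] at b1
        have b2 := congrFun (fixq g) 1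
        rw [hg, mv_apply] at b2
        simp [Matrix.mulVec, dotProduct, Fin.sum_univ_two] at b2
        have b3 : q = 0 := by
          funext j; fin_cases j
          · simpa using b2
          · simpa using b1
        have b4 : Additive.ofMul (⟨(w2 : H)⁻¹ * (w1 : H), h9⟩ : ↥(W 0)) = 0 := by
          apply ψ.injective
          rw [map_zero, ← b3]
        exact Additive.ofMul.injective b4
      have h11 : w1 = w2 := by
        apply Subtype.ext
        have := congrArg Subtype.val h10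
        change (w2 : H)⁻¹ * (w1 : H) = 1 at this
        rw [inv_mul_eq_one] at this
        exact this.symm
      refine ⟨c, ?_⟩
      rw [← hw', ← h5, h11, h7]
    · intro l hl
      obtain ⟨t, ht⟩ := hρ ⟨!![l, 0; 0, l⁻¹], by simp [Matrix.det_fin_two, hl]⟩
      have ht' : (ρ t : Matrix (Fin 2) (Fin 2) F) = !![l, 0; 0, l⁻¹] := by rw [ht]
      have htC : (t : H) ∈ C := by
        rw [← norm_R_le h hR]
        exact torus_norm h 0 ha' h1 h2 ht'
      have hQ1 : y * (t : H) * y⁻¹ * (t : H)⁻¹ ∈ Q := by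
        have h3 := h.hyp.toHyp.cj_Q_of_mem htC
        have h4 : (t : H) * y⁻¹ * (t : H)⁻¹ ∈ Q := by
          rw [← h3]; exact conj_mem_cj (Q.inv_mem hy)
        have e : y * (t : H) * y⁻¹ * (t : H)⁻¹ = y * ((t : H) * y⁻¹ * (t : H)⁻¹) := by group
        rw [e]
        exact Q.mul_mem hy h4
      have htJ : (t : H) ∈ J := E_le_J h 0 t.2
      have hJ1 : y * (t : H) * y⁻¹ * (t : H)⁻¹ ∈ J :=
        J.mul_mem ((mem_normalizer_iff.1 hyJ _).1 htJ) (J.inv_mem htJ)
      obtain ⟨m, hm⟩ := act_S h 0 ha' h1 h2 (h.hyp.Q_le_S hQ1) hJ1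
      refine ⟨m, ?_⟩
      have hat := ha' t
      rw [ht'] at hat
      have e1 : y * (t : H) * y⁻¹ * (t : H)⁻¹ * (t : H) * y = y * (t : H) := by group
      have e2 := (hm.mul hat).mul hf
      rw [e1] at e2
      exact (hf.mul hat).unique e2
  -- `f` is linear
  obtain ⟨b, d, hbd⟩ := lin_of_norm hff hff' (fun A => by
      obtain ⟨x, hx⟩ := hρ A
      have hxJ : y * (x : H) * y⁻¹ ∈ J := (mem_normalizer_iff.1 hyJ _).1 (E_le_J h 0 x.2)
      obtain ⟨B, hB⟩ := act_J h 0 ha' hxJ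
      refine ⟨B, ?_⟩
      have := (hf.mul (ha' x)).mul hfi
      rw [hx] at this
      exact this.unique hB) (fun A => by
      obtain ⟨x, hx⟩ := hρ A
      have hxJ : y⁻¹ * (x : H) * y ∈ J := by
        have := (mem_normalizer_iff.1 (inv_mem hyJ) _).1 (E_le_J h 0 x.2)
        rwa [inv_inv] at this
      obtain ⟨B, hB⟩ := act_J h 0 ha' hxJ
      refine ⟨B, ?_⟩
      have := (hfi.mul (ha' x)).mul hf
      rw [hx] at this
      exact this.unique hB) hline
  rw [hbd, ← map_pow, ← map_one mv] at hk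
  have hd := (unip_of_pow (mv_inj hk)).2
  rw [hd] at hbd
  obtain ⟨u, huS, hu⟩ := h2 b
  have hau := ha' u
  rw [hu] at hau
  -- `u⁻¹ * y` centralises `V`
  have h5 : (u : H)⁻¹ * y ∈ centralizer (W 0 : Set H) := by
    have e1 : Act ψ ((u : H)⁻¹) (mv (up (-b))) := by
      have h6 := ha' u⁻¹
      rw [map_inv, Matrix.SpecialLinearGroup.coe_inv, hu, Matrix.adjugate_fin_two_of, neg_zero] at h6
      exact h6
    have e2 := e1.mul hf
    rw [hbd, ← map_mul] at e2
    have e3 : up (-b) * !![1, b; 0, 1] = (1 : Matrix (Fin 2) (Fin 2) F) := by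
      ext i j
      fin_cases i <;> fin_cases j <;> simp [up, Matrix.mul_apply, Fin.sum_univ_two]
    rw [e3, map_one] at e2
    exact e2.mem_centralizer
  have h6 : (u : H)⁻¹ * y ∈ E 0 := by
    apply h.le_E 0
    refine ⟨P.mul_mem (P.inv_mem (h.E_le 0 u.2)) hyP, ?_⟩
    rw [hV]; exact h5
  rw [hJ]
  have h7 := (E 0).mul_mem u.2 h6
  simpa using h7

theorem D_le_J {E W : Fin 1 → Subgroup H} (h : AStr p S Z C Q P V D J R E W F) : D ≤ J := by
  rw [h.D_eq]
  refine le_trans (le_inf (H229.pCoreOf_le _ _) ?_) ((h.le_E 0).trans (E_le_J h 0))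
  rw [h.V_eq]
  exact pCoreOf_le_centralizer_largest p P

/-- `(eps)`: the conclusion for `r = 1`. -/
theorem concl_one {E W : Fin 1 → Subgroup H} (h : AStr p S Z C Q P V D J R E W F)
    (hR : C ≤ normalizer (R : Set H)) {Pstar : Subgroup H} (hP : Pstar = ncl P Q ⊔ D) :
    IsNaturalSL2Module F V Pstar ∧
      omegaOne p (((S : Subgroup H) ⊓ Pstar) ⊓ centralizer (((S : Subgroup H) ⊓ Pstar : Subgroup H) : Set H)) = R := by
  have hJ : J = E 0 := by rw [h.J_eq]; exact iSup_unique E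
  have hV : V = W 0 := by rw [← h.W_sup]; exact iSup_unique W
  have hQJ := concl_aux h hR hV hJ
  have hDJ := D_le_J h
  have hPJ : Pstar ≤ J := by
    rw [hP]
    exact sup_le (ncl_le h.J_norm hQJ) hDJ
  obtain ⟨c, hcC, hc⟩ := h.ex
  have hSJ : (S : Subgroup H) ⊓ J ≤ Pstar := by
    rw [← (h.adj c hcC hc).1, hP]
    refine sup_le_sup_right ?_ D
    refine le_trans ?_ (le_ncl P Q)
    have h1 := cj_mono (g := c) h.VQ
    rwa [h.hyp.toHyp.cj_Q_of_mem hcC] at h1
  have hSP : (S : Subgroup H) ⊓ Pstar = (S : Subgroup H) ⊓ J :=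
    le_antisymm (inf_le_inf_left _ hPJ) (le_inf inf_le_left hSJ)
  have hnP : P ≤ normalizer (Pstar : Set H) := by
    rw [hP]
    refine le_trans (le_inf (le_norm_ncl P Q) ?_) (norm_sup_le _ _)
    rw [h.D_eq]
    exact le_norm_pCoreOf p P
  have hPE : Pstar ≤ E 0 := by rw [← hJ]; exact hPJ
  constructor
  · subst hV
    obtain ⟨ρ, ψ, hρ, ha, h1, h2⟩ := h.nat 0
    have ha' : ∀ x : ↥(E 0), Act ψ (x : H) (mv (ρ x : Matrix (Fin 2) (Fin 2) F)) := ha
    refine ⟨(hPJ.trans (J_le h)).trans (norm_V h), ρ.comp (inclusion hPE), ψ, ?_, ?_, ?_⟩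
    · intro A
      have key : A ∈ (ρ.comp (inclusion hPE)).range := by
        refine sl_top ?_ ?_ A
        · rintro g _ ⟨x, rfl⟩
          obtain ⟨y, hy⟩ := hρ g
          have hyP : (y : H) ∈ P := h.E_le 0 y.2
          have hm : (y : H) * (x : H) * (y : H)⁻¹ ∈ Pstar := (mem_normalizer_iff.1 (hnP hyP) _).1 x.2
          refine ⟨⟨_, hm⟩, ?_⟩
          rw [← hy]
          change ρ ⟨(y : H) * (x : H) * (y : H)⁻¹, _⟩ = ρ y * ρ ⟨(x : H), _⟩ * (ρ y)⁻¹
          rw [← map_mul, ← map_inv, ← map_mul]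
          rfl
        · intro a B hB
          obtain ⟨u, huS, hu⟩ := h2 a
          have hm : (u : H) ∈ Pstar := hSJ ⟨huS, E_le_J h 0 u.2⟩
          refine ⟨⟨_, hm⟩, ?_⟩
          apply Subtype.ext
          rw [hB]
          exact hu
      exact key
    · ext x
      rw [MonoidHom.mem_ker, mem_subgroupOf]
      constructor
      · intro hx
        have h3 := ha' (inclusion hPE x)
        have h4 : ρ (inclusion hPE x) = 1 := hx
        rw [h4, Matrix.SpecialLinearGroup.coe_one, map_one] at h3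
        exact h3.mem_centralizer
      · intro hx
        have h3 := ha' (inclusion hPE x)
        have h4 : Act ψ (x : H) (1 : AddMonoid.End (Fin 2 → F)) := Act.of_centralizer hx
        have h5 := h3.unique h4
        rw [← map_one mv] at h5
        apply Subtype.ext
        exact mv_inj h5
    · intro x v
      exact ha (inclusion hPE x) v
  · rw [hSP]
    have hDS : D ≤ (S : Subgroup H) ⊓ J := by
      refine le_inf ?_ hDJ
      rw [h.D_eq]; exact h.hyp.D_le_S
    have hcD : centralizer (D : Set H) ≤ D := by rw [h.D_eq]; exact h.hyp.hPchar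
    have hVz : V = zOmega p D := by rw [h.V_eq, h.D_eq]; exact h.hyp.Y_eq
    apply le_antisymm
    · unfold omegaOne
      rw [closure_le]
      rintro x ⟨⟨hx1, hx2⟩, hx3⟩
      have hxD : x ∈ centralizer (D : Set H) := (Subgroup.centralizer_le hDS) hx2
      change x ∈ R
      rw [h.R_eq]
      refine ⟨?_, hx2⟩
      rw [hVz]
      exact ⟨hcD hxD, hxD, hx3⟩
    · intro x hx
      have hx' := hx
      rw [h.R_eq] at hx'
      have hxV : x ∈ zOmega p D := by rw [← hVz]; exact hx'.1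
      unfold omegaOne
      apply Subgroup.subset_closure
      exact ⟨⟨hDS hxV.1, hx'.2⟩, hxV.2.2⟩

/-- `(eps)`: the conclusion for `r = 1`. -/
theorem concl (h : AStr p S Z C Q P V D J R E W F) (hR : C ≤ normalizer (R : Set H)) (h1 : r = 1)
    {Pstar : Subgroup H} (hP : Pstar = ncl P Q ⊔ D) :
    IsNaturalSL2Module F V Pstar ∧
      omegaOne p (((S : Subgroup H) ⊓ Pstar) ⊓ centralizer (((S : Subgroup H) ⊓ Pstar : Subgroup H) : Set H)) = R := by
  subst h1
  exact concl_one h hR hP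

end

end Cfsg.Agent.H736.P1
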